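import Cfsg.Agent.SporB.Fi24.E7.Check0
import Cfsg.Agent.Lib.CosetEnum.Local

set_option autoImplicit false
set_option maxRecDepth 100000

namespace Cfsg.Agent.CosetEnum.Fi24.E7

theorem dok0 : allRange sys.checkDef 0 110 = true := by decide +kernel
def dchunks : List ℕ := [110]
def fchunks : List (ℕ × ℕ) := [(84, fv0), (78, fv1), (79, fv2), (67, fv3)]
theorem defsOK : sys.DefsOK 0 dchunks := ⟨dok0, trivial⟩
theorem factsOK : sys.FactsOK 110 fchunks := ⟨fok0, fok1, fok2, fok3, trivial⟩
theorem rules_ok : sys.rules.all (fun R => R.check sys rels subs) = true := by decide +kernel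
theorem inv_ok : allRange (fun l => Nat.beq (sys.inv l) l) 0 (sys.nl + 1) = true := by decide +kernel
def rchunks : List (ℕ × ℕ) := [(22, rv0), (22, rv1), (12, rv2)]
theorem rok0 : sys.checkRows 56 418 0 22 rv0 = true := by decide +kernel
theorem rok1 : sys.checkRows 56 418 22 22 rv1 = true := by decide +kernel
theorem rok2 : sys.checkRows 56 418 44 12 rv2 = true := by decide +kernel
theorem rowsOK : sys.RowsOK 56 418 0 rchunks := ⟨rok0, rok1, rok2, trivial⟩
theorem cert : Cert sys 56 110 418 :=
  Cert.of_chunks dchunks fchunks rchunks (by decide) defsOK (by decide +kernel) factsOK (by decide +kernel) rowsOK (by decide +kernel)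

end Cfsg.Agent.CosetEnum.Fi24.E7
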