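import Cfsg.Agent.SporB.Fi24.E7.Data

set_option autoImplicit false
set_option maxRecDepth 100000

namespace Cfsg.Agent.CosetEnum.Fi24.E7

theorem fok0 : sys.checkFacts 110 84 fv0 = true := by decide +kernel
theorem fok1 : sys.checkFacts 194 78 fv1 = true := by decide +kernel
theorem fok2 : sys.checkFacts 272 79 fv2 = true := by decide +kernel
theorem fok3 : sys.checkFacts 351 67 fv3 = true := by decide +kernel

end Cfsg.Agent.CosetEnum.Fi24.E7
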